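import Groth.Agent.Lib.PerfCl20.Ring
import Groth.Agent.Lib.FrobUH12.Basic
import Groth.Agent.Lib.UnivHomeo.AwayPrime
import Mathlib.AlgebraicGeometry.Morphisms.IsIso
import Mathlib.Topology.LocalAtTarget

/-!
# Perfections of schemes of characteristic p
-/

universe u

set_option autoImplicit false
set_option linter.style.haveILetI false

open CategoryTheory CategoryTheory.Limits AlgebraicGeometry

namespace Groth.Agent.PerfCl20

variable {p : ℕ} [Fact p.Prime]

theorem bijective_sections {X : Scheme.{u}} [FrobSch.IsCharP X p] (h : FrobSch.IsPerfect X p)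
    (U : X.Opens) : Function.Bijective fun s : Γ(X, U) => s ^ p := by
  haveI : IsIso (FrobSch.frob X p) := h
  have h1 : IsIso ((FrobSch.frob X p).app U) := inferInstance
  exact (ConcreteCategory.isIso_iff_bijective ((FrobSch.frob X p).app U)).1 h1

theorem isPerfect_of_affine {X : Scheme.{u}} [IsAffine X] [FrobSch.IsCharP X p]
    (h : Function.Bijective fun s : Γ(X, ⊤) => s ^ p) : FrobSch.IsPerfect X p := by
  haveI : IsIso (FrobSch.frob X p).appTop := by
    rw [ConcreteCategory.isIso_iff_bijective]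
    exact h
  exact (MorphismProperty.arrow_mk_iso_iff (MorphismProperty.isomorphisms Scheme.{u})
    (arrowIsoSpecΓOfIsAffine (FrobSch.frob X p))).2
    (inferInstance : IsIso (Spec.map (FrobSch.frob X p).appTop))

theorem isPerfect_spec {A : CommRingCat.{u}} [FrobSch.IsCharP (Spec A) p]
    (h : Function.Bijective fun s : A => s ^ p) : FrobSch.IsPerfect (Spec A) p := by
  refine isPerfect_of_affine ?_
  let e := (Scheme.ΓSpecIso A).commRingCatIsoToRingEquiv
  have : (fun s : Γ(Spec A, ⊤) => s ^ p) = e.symm ∘ (fun s : A => s ^ p) ∘ e := by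
    funext s
    simp [Function.comp]
  rw [this]
  exact e.symm.bijective.comp (h.comp e.bijective)

theorem charP_spec {A : CommRingCat.{u}} (h : (p : A) = 0) : FrobSch.IsCharP (Spec A) p where
  natCast_eq_zero := by
    apply (Scheme.ΓSpecIso A).commRingCatIsoToRingEquiv.injective
    rw [map_natCast, map_zero]
    exact h

/-- An open subscheme of a perfect scheme is perfect. -/
theorem isPerfect_of_isOpenImmersion {U X : Scheme.{u}} [FrobSch.IsCharP X p] [FrobSch.IsCharP U p]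
    (j : U ⟶ X) [IsOpenImmersion j] (h : FrobSch.IsPerfect X p) : FrobSch.IsPerfect U p := by
  haveI : IsIso (FrobSch.frob X p) := h
  haveI : IsOpenImmersion (FrobSch.frob U p ≫ j) := by
    rw [FrobSch.frob_comp]; infer_instance
  haveI : IsOpenImmersion (FrobSch.frob U p) := IsOpenImmersion.of_comp (FrobSch.frob U p) j
  haveI : Surjective (FrobSch.frob U p) := ⟨fun x => ⟨x, rfl⟩⟩
  exact isIso_of_isOpenImmersion_of_opensRange_eq_top _ (by
    ext x
    simpa using ⟨x, FrobSch.frob_apply U p x⟩)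

variable {XP X : Scheme.{u}} [FrobSch.IsCharP XP p] {π : XP ⟶ X}

theorem perfection_ext (hπ : FrobSch.IsPerfection π p) {Y : Scheme.{u}} [FrobSch.IsCharP Y p]
    (hY : FrobSch.IsPerfect Y p) {g g' : Y ⟶ XP} (h : g ≫ π = g' ≫ π) : g = g' :=
  (hπ.2 Y hY).injective h

theorem perfection_lift (hπ : FrobSch.IsPerfection π p) {Y : Scheme.{u}} [FrobSch.IsCharP Y p]
    (hY : FrobSch.IsPerfect Y p) (g : Y ⟶ X) : ∃ h : Y ⟶ XP, h ≫ π = g :=
  (hπ.2 Y hY).surjective g

theorem exists_iso (hπ : FrobSch.IsPerfection π p) {XP' : Scheme.{u}} [FrobSch.IsCharP XP' p]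
    {π' : XP' ⟶ X} (hπ' : FrobSch.IsPerfection π' p) : ∃ e : XP ≅ XP', e.hom ≫ π' = π := by
  obtain ⟨a, ha⟩ := perfection_lift hπ' hπ.1 π
  obtain ⟨b, hb⟩ := perfection_lift hπ hπ'.1 π'
  exact ⟨⟨a, b, perfection_ext hπ hπ.1 (by simp [ha, hb]),
    perfection_ext hπ' hπ'.1 (by simp [ha, hb])⟩, ha⟩

/-- Perfections commute with open immersions. -/
theorem isPerfection_of_isPullback (hπ : FrobSch.IsPerfection π p) {UP U : Scheme.{u}}
    [FrobSch.IsCharP UP p] {j' : UP ⟶ XP} {q : UP ⟶ U} {j : U ⟶ X} [IsOpenImmersion j]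
    (h : IsPullback j' q π j) : FrobSch.IsPerfection q p := by
  haveI : IsOpenImmersion j' := MorphismProperty.of_isPullback h.flip ‹IsOpenImmersion j›
  refine ⟨isPerfect_of_isOpenImmersion j' hπ.1, fun Y _ hY => ⟨fun g g' hg => ?_, fun g => ?_⟩⟩
  · change g ≫ q = g' ≫ q at hg
    exact h.hom_ext (perfection_ext hπ hY (by rw [Category.assoc, Category.assoc, h.w, reassoc_of% hg]))
      hg
  · obtain ⟨a, ha⟩ := perfection_lift hπ hY (g ≫ j)
    exact ⟨h.lift a g ha, h.lift_snd _ _ _⟩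

theorem isPerfection_restrict (hπ : FrobSch.IsPerfection π p) (U : X.Opens) :
    letI := FrobSch.IsCharP.of_hom (π ⁻¹ᵁ U).ι p
    FrobSch.IsPerfection (π ∣_ U) p := by
  letI := FrobSch.IsCharP.of_hom (π ⁻¹ᵁ U).ι p
  exact isPerfection_of_isPullback hπ (isPullback_morphismRestrict π U).flip

theorem isPerfection_spec {A B : CommRingCat.{u}} (φ : A ⟶ B) (h0 : (p : A) = 0)
    (hφ : IsPerfMap p φ.hom) [FrobSch.IsCharP (Spec B) p] :
    FrobSch.IsPerfection (Spec.map φ) p := by
  refine ⟨isPerfect_spec hφ.perfect, fun Y _ hY => ?_⟩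
  have hC := bijective_sections hY ⊤
  let eA := (ΓSpec.adjunction.homEquiv Y (Opposite.op A))
  let eB := (ΓSpec.adjunction.homEquiv Y (Opposite.op B))
  refine ⟨fun g g' hg => ?_, fun g => ?_⟩
  · apply eB.symm.injective
    have h := congrArg eA.symm hg
    simp only [eA] at h
    rw [show Spec.map φ = Scheme.Spec.map φ.op from rfl,
      Adjunction.homEquiv_naturality_right_symm, Adjunction.homEquiv_naturality_right_symm] at h
    have h' := congrArg (fun t => t.unop.hom) h
    simp only [unop_comp, CommRingCat.hom_comp, Quiver.Hom.unop_op] at h'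
    exact Quiver.Hom.unop_inj (CommRingCat.hom_ext (hφ.lift_ext hC h'))
  · obtain ⟨χ, hχ⟩ := hφ.exists_lift h0 (FrobSch.natCast_eq_zero_app Y p ⊤) hC
      (eA.symm g).unop.hom
    refine ⟨eB (CommRingCat.ofHom χ).op, ?_⟩
    apply eA.symm.injective
    show eA.symm (_ ≫ Scheme.Spec.map φ.op) = _
    simp only [eA]
    rw [Adjunction.homEquiv_naturality_right_symm, show ((ΓSpec.adjunction.homEquiv Y
      (Opposite.op B)).symm (eB (CommRingCat.ofHom χ).op)) = (CommRingCat.ofHom χ).op from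
      eB.symm_apply_apply _]
    exact Quiver.Hom.unop_inj (CommRingCat.hom_ext hχ)

/-- The structure of a perfection over an affine open. -/
theorem affine_isPerfMap [FrobSch.IsCharP X p] (hπ : FrobSch.IsPerfection π p) {U : X.Opens}
    (hU : IsAffineOpen U) : IsAffineOpen (π ⁻¹ᵁ U) ∧ IsPerfMap p (π.app U).hom := by
  letI := FrobSch.IsCharP.of_hom (π ⁻¹ᵁ U).ι p
  have h0 : (p : Γ(X, U)) = 0 := FrobSch.natCast_eq_zero_app X p U
  obtain ⟨B, φ, hφ⟩ := exists_isPerfMap p Γ(X, U) h0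
  haveI := charP_spec (p := p) (A := B) (by rw [← map_natCast φ.hom, h0, map_zero])
  have hr := isPerfection_restrict hπ U
  have hs : FrobSch.IsPerfection (Spec.map φ ≫ hU.isoSpec.inv) p := by
    refine ⟨(isPerfection_spec φ h0 hφ).1, fun Y _ hY => ?_⟩
    have := (isPerfection_spec φ h0 hφ).2 Y hY
    refine ⟨fun g g' hg => this.injective ?_, fun g => ?_⟩
    · show g ≫ Spec.map φ = g' ≫ Spec.map φ
      rw [← cancel_mono hU.isoSpec.inv, Category.assoc, Category.assoc]
      exact hg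
    · obtain ⟨k, hk⟩ := this.surjective (g ≫ hU.isoSpec.hom)
      change k ≫ Spec.map φ = g ≫ hU.isoSpec.hom at hk
      exact ⟨k, by simp [reassoc_of% hk]⟩
  obtain ⟨e, he⟩ := exists_iso hr hs
  haveI : IsAffine (π ⁻¹ᵁ U).toScheme := .of_isIso e.hom
  refine ⟨‹IsAffine (π ⁻¹ᵁ U).toScheme›, ?_⟩
  have hV : IsAffineOpen (π ⁻¹ᵁ U) := ‹IsAffine (π ⁻¹ᵁ U).toScheme›
  let e' : Spec Γ(XP, π ⁻¹ᵁ U) ≅ Spec B := hV.isoSpec.symm ≪≫ e
  have hsq : e'.hom ≫ Spec.map φ = Spec.map (π.app U) := by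
    have h1 : Spec.map (π.app U) ≫ hU.fromSpec = hV.fromSpec ≫ π := by
      rw [Scheme.Hom.app_eq_appLE]; exact IsAffineOpen.SpecMap_appLE_fromSpec _ hU hV le_rfl
    rw [← cancel_mono hU.fromSpec, h1, ← hV.isoSpec_inv_ι, Category.assoc, Category.assoc,
      ← morphismRestrict_ι, ← he]
    simp [e', IsAffineOpen.isoSpec_inv_ι]
  obtain ⟨ψ, hψ⟩ := Spec.map_surjective e'.hom
  haveI : IsIso (Spec.map ψ) := by rw [hψ]; infer_instance
  haveI : IsIso ψ := by
    haveI : IsIso (Scheme.Spec.map ψ.op) := ‹IsIso (Spec.map ψ)›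
    haveI := isIso_of_fully_faithful Scheme.Spec ψ.op
    exact isIso_of_op ψ
  have hd : π.app U = φ ≫ ψ := Spec.map_injective (by rw [Spec.map_comp, hψ, hsq])
  have hb : Function.Bijective ψ.hom := ConcreteCategory.bijective_of_isIso ψ
  refine ⟨bijective_sections hπ.1 _, fun a ha => ?_, fun b => ?_⟩
  · refine hφ.ker a (hb.injective ?_)
    rw [map_zero, ← ha, hd]
    rfl
  · obtain ⟨c, rfl⟩ := hb.surjective b
    obtain ⟨n, a, ha⟩ := hφ.range c
    refine ⟨n, a, ?_⟩
    rw [hd, ← map_pow, ← ha]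
    rfl

theorem isUnivHomeo_spec {A B : Type u} [CommRing A] [CommRing B] (φ : A →+* B) (h0 : (p : A) = 0)
    (hφ : IsPerfMap p φ) : FlatMor.IsUnivHomeo (Spec.map (CommRingCat.ofHom φ)) := by
  have hp : p.Prime := Fact.out
  have haway : Function.Bijective (Localization.awayMap φ (p : A)) := by
    haveI : Subsingleton (Localization.Away (p : A)) :=
      IsLocalization.subsingleton (M := Submonoid.powers (p : A)) ⟨1, by simp [h0]⟩
    haveI : Subsingleton (Localization.Away (φ (p : A))) :=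
      IsLocalization.subsingleton (M := Submonoid.powers (φ (p : A))) ⟨1, by simp [h0]⟩
    exact ⟨fun x y _ => Subsingleton.elim x y, fun y => ⟨0, Subsingleton.elim _ _⟩⟩
  refine (UH.isUnivHomeo_Spec_iff_away φ p hp haway).2 ⟨fun a ha => ?_, fun b => ?_⟩
  · obtain ⟨n, hn⟩ := hφ.ker a ha
    exact ⟨_, hn⟩
  · obtain ⟨n, a, ha⟩ := hφ.range b
    refine ⟨n + 1, ⟨0, ?_⟩, ⟨a ^ p, ?_⟩⟩
    · rw [map_zero, pow_succ, show (p : B) = 0 by rw [← map_natCast φ, h0, map_zero], mul_zero,
        zero_mul]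
    · rw [map_pow, ha, ← pow_mul, ← pow_succ]

theorem isZariskiLocalAtTarget_isUnivHomeo :
    IsZariskiLocalAtTarget (FlatMor.IsUnivHomeo.{u}) := by
  refine universally_isZariskiLocalAtTarget _ fun {X Y} f ι U hU H => ?_
  refine (hU.isHomeomorph_iff_restrictPreimage f.continuous).2 fun i => ?_
  have := H i
  simp only [topologically, morphismRestrict_base] at this
  exact this

/-- A perfection is a universal homeomorphism. -/
theorem isUnivHomeo [FrobSch.IsCharP X p] (hπ : FrobSch.IsPerfection π p) :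
    FlatMor.IsUnivHomeo π := by
  haveI := isZariskiLocalAtTarget_isUnivHomeo.{u}
  rw [IsZariskiLocalAtTarget.iff_of_iSup_eq_top (P := FlatMor.IsUnivHomeo) _
    (iSup_affineOpens_eq_top X)]
  intro U
  obtain ⟨hV, hm⟩ := affine_isPerfMap hπ U.2
  haveI : IsAffine (π ⁻¹ᵁ U.1).toScheme := hV
  haveI : IsAffine (U.1 : Scheme) := U.2
  have hsp := isUnivHomeo_spec _ (FrobSch.natCast_eq_zero_app X p U.1) hm
  have h1 : Spec.map (π.app U.1) ≫ U.2.fromSpec = hV.fromSpec ≫ π := by
    rw [Scheme.Hom.app_eq_appLE]; exact IsAffineOpen.SpecMap_appLE_fromSpec _ U.2 hV le_rfl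
  rw [show π ∣_ U.1 = hV.isoSpec.hom ≫ Spec.map (π.app U.1) ≫ U.2.isoSpec.inv by
    rw [← cancel_mono U.1.ι, morphismRestrict_ι, Category.assoc, Category.assoc,
      U.2.isoSpec_inv_ι, h1, ← hV.isoSpec_inv_ι, Category.assoc, Iso.hom_inv_id_assoc]]
  exact UH.isUnivHomeo_comp (UH.isUnivHomeo_of_isImmersion _)
    (UH.isUnivHomeo_comp hsp (UH.isUnivHomeo_of_isImmersion _))

end Groth.Agent.PerfCl20
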