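import Groth.Agent.Lib.PerfCl20.Props
import Mathlib.AlgebraicGeometry.Morphisms.Affine

/-!
# A scheme with affine perfection is affine
-/

universe u

set_option autoImplicit false
set_option linter.style.haveILetI false

open CategoryTheory CategoryTheory.Limits AlgebraicGeometry Opposite

namespace Groth.Agent.PerfCl20

variable {p : ℕ} [Fact p.Prime] {XP X : Scheme.{u}} [FrobSch.IsCharP XP p] [FrobSch.IsCharP X p]
  {π : XP ⟶ X}

theorem ker_of_isCompact (hπ : FrobSch.IsPerfection π p) {U : X.Opens}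
    (hU : IsCompact (U : Set X)) (a : Γ(X, U)) (ha : π.app U a = 0) :
    ∃ n : ℕ, a ^ p ^ n = 0 := by
  have : π ⁻¹ᵁ X.basicOpen a = ⊥ := by
    rw [Scheme.preimage_basicOpen, ha, Scheme.basicOpen_zero]
  have hbot : X.basicOpen a = ⊥ := by
    ext x
    simp only [TopologicalSpace.Opens.coe_bot, Set.mem_empty_iff_false, iff_false]
    intro hx
    obtain ⟨y, rfl⟩ := (surjective hπ).surj x
    exact (show y ∈ π ⁻¹ᵁ X.basicOpen a from hx) |> fun h => by rw [this] at h; exact h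
  obtain ⟨k, hk⟩ := (Scheme.isNilpotent_iff_basicOpen_eq_bot_of_isCompact hU a).2 hbot
  exact ⟨k, pow_eq_zero_of_le (Nat.lt_pow_self (Fact.out : p.Prime).one_lt).le hk⟩

theorem range_of_isCompact (hπ : FrobSch.IsPerfection π p) {W : X.Opens}
    (hqs : IsQuasiSeparated (W : Set X)) (U : X.Opens) (hU : IsCompact (U : Set X)) (hUW : U ≤ W) :
    ∀ b : Γ(XP, π ⁻¹ᵁ U), ∃ (n : ℕ) (a : Γ(X, U)), π.app U a = b ^ p ^ n := by
  revert hUW
  refine compact_open_induction_on (P := fun U : X.Opens => U ≤ W →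
    ∀ b : Γ(XP, π ⁻¹ᵁ U), ∃ (n : ℕ) (a : Γ(X, U)), π.app U a = b ^ p ^ n) U hU ?_ ?_
  · intro _ b
    refine ⟨0, 0, ?_⟩
    haveI : Subsingleton Γ(XP, π ⁻¹ᵁ (⊥ : X.Opens)) := by
      rw [Scheme.Hom.preimage_bot]; infer_instance
    exact Subsingleton.elim _ _
  · intro S hS V ih hle b
    have hSW : S ≤ W := le_sup_left.trans hle
    have hVW : V.1 ≤ W := le_sup_right.trans hle
    let r₁ : S ⟶ S ⊔ V.1 := homOfLE le_sup_left
    let r₂ : V.1 ⟶ S ⊔ V.1 := homOfLE le_sup_right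
    obtain ⟨n₁, a₁, h₁⟩ := ih hSW (XP.presheaf.map ((TopologicalSpace.Opens.map π.base).map r₁).op b)
    obtain ⟨n₂, a₂, h₂⟩ := (affine_isPerfMap hπ V.2).2.range
      (XP.presheaf.map ((TopologicalSpace.Opens.map π.base).map r₂).op b)
    have hI : IsCompact ((S ⊓ V.1 : X.Opens) : Set X) :=
      hqs S V.1 hSW S.2 hS hVW V.1.2 V.2.isCompact
    let d : Γ(X, S ⊓ V.1) := X.presheaf.map (homOfLE inf_le_left).op (a₁ ^ p ^ n₂) -
      X.presheaf.map (homOfLE inf_le_right).op (a₂ ^ p ^ n₁)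
    have hnat : ∀ {O O' : X.Opens} (i : O ⟶ O') (a : Γ(X, O')),
        π.app O (X.presheaf.map i.op a) =
          XP.presheaf.map ((TopologicalSpace.Opens.map π.base).map i).op (π.app O' a) :=
      fun i a => ConcreteCategory.congr_hom (π.naturality i.op) a
    have hd : π.app _ d = 0 := by
      simp only [d, map_sub, map_pow, hnat]
      erw [h₁, h₂]
      simp only [map_pow, ← pow_mul, ← ConcreteCategory.comp_apply, ← Functor.map_comp,
        ← op_comp, ← Functor.map_comp]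
      rw [mul_comm (p ^ n₁)]
      exact sub_eq_zero.mpr rfl
    obtain ⟨m, hm⟩ := ker_of_isCompact hπ hI d hd
    have h0 := FrobSch.natCast_eq_zero_app X p (S ⊓ V.1)
    rw [sub_pow_eq h0, sub_eq_zero] at hm
    let U' : Bool → X.Opens := fun t => if t then S else V.1
    let sf : ∀ t : Bool, Γ(X, U' t) := fun t =>
      match t with
      | true => (a₁ ^ p ^ n₂) ^ p ^ m
      | false => (a₂ ^ p ^ n₁) ^ p ^ m
    have hcomp : TopCat.Presheaf.IsCompatible X.sheaf.1 U' sf := by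
      have key : X.presheaf.map (homOfLE (inf_le_left : S ⊓ V.1 ≤ S)).op ((a₁ ^ p ^ n₂) ^ p ^ m) =
          X.presheaf.map (homOfLE (inf_le_right : S ⊓ V.1 ≤ V.1)).op ((a₂ ^ p ^ n₁) ^ p ^ m) := by
        simpa only [map_pow] using hm
      rintro (_ | _) (_ | _)
      · rfl
      · have := congrArg (X.presheaf.map (homOfLE (le_of_eq (inf_comm _ _) : V.1 ⊓ S ≤ S ⊓ V.1)).op) key
        simp only [← ConcreteCategory.comp_apply, ← Functor.map_comp, ← op_comp] at this
        exact this.symm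
      · exact key
      · rfl
    obtain ⟨a, ha, -⟩ := X.sheaf.existsUnique_gluing' U' (S ⊔ V.1)
      (fun t => match t with | true => r₁ | false => r₂)
      (by rw [iSup_bool_eq]; exact le_refl _) sf hcomp
    refine ⟨n₁ + n₂ + m, a, ?_⟩
    refine XP.sheaf.eq_of_locally_eq₂
      ((TopologicalSpace.Opens.map π.base).map r₁) ((TopologicalSpace.Opens.map π.base).map r₂)
      (by
        rintro x (hx | hx)
        · exact Or.inl hx
        · exact Or.inr hx) _ _ ?_ ?_
    · refine (hnat r₁ a).symm.trans ?_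
      have e : X.presheaf.map r₁.op a = sf true := ha true
      rw [e]
      refine Eq.trans ?_ (map_pow (XP.presheaf.map _).hom b _).symm
      show π.app S ((a₁ ^ p ^ n₂) ^ p ^ m) = _
      rw [map_pow, map_pow, h₁, ← pow_mul, ← pow_mul, ← pow_add, ← pow_add, ← Nat.add_assoc]
    · refine (hnat r₂ a).symm.trans ?_
      have e : X.presheaf.map r₂.op a = sf false := ha false
      rw [e]
      refine Eq.trans ?_ (map_pow (XP.presheaf.map _).hom b _).symm
      show π.app V.1 ((a₂ ^ p ^ n₁) ^ p ^ m) = _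
      rw [map_pow, map_pow, h₂, ← pow_mul, ← pow_mul, ← pow_add, ← pow_add, ← Nat.add_assoc, Nat.add_comm n₂ n₁]

theorem isAffineOpen_of_preimage (hπ : FrobSch.IsPerfection π p) (V : X.Opens)
    (hc : IsCompact (V : Set X)) (hqs : IsQuasiSeparated (V : Set X))
    (hV : IsAffineOpen (π ⁻¹ᵁ V)) : IsAffineOpen V := by
  let s : Set Γ(X, V) := {a | IsAffineOpen (X.basicOpen a)}
  refine isAffineOpen_of_isAffineOpen_basicOpen V s ?_ fun a ha => ha
  by_contra hne
  obtain ⟨m, hm, hsm⟩ := Ideal.exists_le_maximal _ hne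
  have hp : p.Prime := Fact.out
  let φ := (π.app V).hom
  have hrange := range_of_isCompact hπ hqs V hc le_rfl
  have h0 := FrobSch.natCast_eq_zero_app X p V
  have h0' := FrobSch.natCast_eq_zero_app XP p (π ⁻¹ᵁ V)
  let Q : Ideal Γ(XP, π ⁻¹ᵁ V) :=
    { carrier := {b | ∃ (n : ℕ) (a : Γ(X, V)), a ∈ m ∧ φ a = b ^ p ^ n}
      zero_mem' := ⟨0, 0, m.zero_mem, by simp⟩
      add_mem' := by
        rintro b b' ⟨n, a, ha, h⟩ ⟨n', a', ha', h'⟩
        refine ⟨n + n', a ^ p ^ n' + a' ^ p ^ n,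
          m.add_mem (m.pow_mem_of_mem ha _ (pow_pos hp.pos _)) (m.pow_mem_of_mem ha' _ (pow_pos hp.pos _)), ?_⟩
        rw [map_add, map_pow, map_pow, h, h', add_pow_eq h0', ← pow_mul, ← pow_mul, ← pow_add,
          ← pow_add, Nat.add_comm n' n]
      smul_mem' := by
        rintro c b ⟨n, a, ha, h⟩
        obtain ⟨k, d, hd⟩ := hrange c
        refine ⟨n + k, d ^ p ^ n * a ^ p ^ k,
          m.mul_mem_left _ (m.pow_mem_of_mem ha _ (pow_pos hp.pos _)), ?_⟩
        rw [map_mul, map_pow, map_pow, h, show φ d = c ^ p ^ k from hd, smul_eq_mul, mul_pow,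
          ← pow_mul, ← pow_mul, ← pow_add, ← pow_add, Nat.add_comm k n] }
  have hQ : Q ≠ ⊤ := by
    rw [Ideal.ne_top_iff_one]
    rintro ⟨n, a, ha, h⟩
    rw [one_pow] at h
    obtain ⟨k, hk⟩ := ker_of_isCompact hπ hc (a - 1) (by
      show φ (a - 1) = 0
      rw [map_sub, h, map_one, sub_self])
    have : a - 1 ∈ m := hm.isPrime.mem_of_pow_mem _ (by rw [hk]; exact m.zero_mem)
    exact hm.ne_top ((Ideal.eq_top_iff_one m).2 (by simpa using m.sub_mem ha this))
  obtain ⟨P, hP, hQP⟩ := Ideal.exists_le_maximal Q hQ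
  let x : XP := hV.fromSpec ⟨P, hP.isPrime⟩
  have hx : x ∈ π ⁻¹ᵁ V := by
    have := hV.range_fromSpec
    exact (Set.ext_iff.mp this x).1 ⟨_, rfl⟩
  obtain ⟨_, ⟨W, hW, rfl⟩, hxW, hWV⟩ := X.isBasis_affineOpens.exists_subset_of_mem_open
    (show π x ∈ (V : Set X) from hx) V.2
  obtain ⟨b, hb, hxb⟩ := hV.exists_basicOpen_le (V := π ⁻¹ᵁ W) ⟨x, hxW⟩ hx
  obtain ⟨n, a, ha⟩ := hrange b
  have hab : π ⁻¹ᵁ X.basicOpen a = XP.basicOpen b := by
    rw [Scheme.preimage_basicOpen, ha, Scheme.basicOpen_pow _ _ (pow_pos hp.pos n)]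
  have haW : X.basicOpen a ≤ W := by
    intro y hy
    obtain ⟨z, rfl⟩ := (surjective hπ).surj y
    exact hb (hab.le hy)
  have has : a ∈ s := by
    show IsAffineOpen (X.basicOpen a)
    have e : X.basicOpen (X.presheaf.map (homOfLE hWV).op a) = X.basicOpen a := by
      rw [Scheme.basicOpen_res]; exact inf_eq_right.mpr haW
    rw [← e]
    exact hW.basicOpen _
  have hbP : b ∈ P := hQP ⟨n, a, hsm (Ideal.subset_span has), ha⟩
  have : (⟨P, hP.isPrime⟩ : Spec Γ(XP, π ⁻¹ᵁ V)) ∈ hV.fromSpec ⁻¹ᵁ XP.basicOpen b := hxb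
  rw [hV.fromSpec_preimage_basicOpen] at this
  exact this hbP

theorem isAffineHom_iff {Y YP : Scheme.{u}} [FrobSch.IsCharP Y p] [FrobSch.IsCharP YP p]
    {πY : YP ⟶ Y} {f : X ⟶ Y} {fP : XP ⟶ YP}
    (hX : FrobSch.IsPerfection π p) (hY : FrobSch.IsPerfection πY p) (w : fP ≫ πY = π ≫ f) :
    IsAffineHom f ↔ IsAffineHom fP := by
  refine ⟨fun _ => isAffineHom_perfection hX hY w, fun _ => ⟨fun U hU => ?_⟩⟩
  haveI : QuasiCompact f := (quasiCompact_iff hX hY w).2 inferInstance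
  haveI : QuasiSeparated f := (quasiSeparated_iff hX hY w).2 inferInstance
  refine isAffineOpen_of_preimage hX _ (f.isCompact_preimage hU.isCompact)
    (f.isQuasiSeparated_preimage hU.isQuasiSeparated) ?_
  rw [← Scheme.Hom.comp_preimage, ← w, Scheme.Hom.comp_preimage]
  exact (affine_isPerfMap hY hU).1.preimage fP

end Groth.Agent.PerfCl20
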