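import Groth.Agent.Lib.PerfCl20.Props
import Groth.Agent.Lib.UnivSubm25.Graph
import Mathlib.AlgebraicGeometry.Morphisms.Etale

/-!
# The perfection of an étale morphism
-/

universe u

set_option autoImplicit false
set_option linter.style.haveILetI false

open CategoryTheory CategoryTheory.Limits AlgebraicGeometry

namespace Groth.Agent.PerfCl20

variable {p : ℕ} [Fact p.Prime]

/-- A scheme étale over a perfect scheme is perfect. -/
theorem isPerfect_of_etale {P S : Scheme.{u}} [FrobSch.IsCharP S p] [FrobSch.IsCharP P p]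
    (g : P ⟶ S) [Etale g] (hS : FrobSch.IsPerfect S p) : FrobSch.IsPerfect P p := by
  haveI : IsIso (FrobSch.frob S p) := hS
  haveI : Etale (pullback.snd g (FrobSch.frob S p)) := MorphismProperty.pullback_snd _ _ ‹_›
  haveI : Etale (FrobSch.relFrob g p ≫ pullback.snd g (FrobSch.frob S p)) := by
    rw [FrobSch.relFrob_snd]; infer_instance
  haveI : Etale (FrobSch.relFrob g p) :=
    Etale.of_comp (FrobSch.relFrob g p) (pullback.snd g (FrobSch.frob S p))
  have h := FrobUH12.isUnivHomeo_relFrob p g
  haveI := UH.universallyInjective_of_isUnivHomeo h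
  haveI := UH.surjective_of_isUnivHomeo h
  haveI : IsOpenImmersion (FrobSch.relFrob g p) := UnivSubm25.isOpenImmersion_of_etale_univInj _
  haveI : IsIso (FrobSch.relFrob g p) :=
    isIso_of_isOpenImmersion_of_opensRange_eq_top _ (by
      ext x
      simpa using (FrobSch.relFrob g p).surjective x)
  show IsIso (FrobSch.frob P p)
  rw [← FrobSch.relFrob_fst g p]
  infer_instance

theorem isPullback_perfection_of_etale {X Y XP YP : Scheme.{u}}
    [FrobSch.IsCharP X p] [FrobSch.IsCharP Y p] [FrobSch.IsCharP XP p] [FrobSch.IsCharP YP p]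
    {πX : XP ⟶ X} {πY : YP ⟶ Y} {f : X ⟶ Y} {fP : XP ⟶ YP}
    (hX : FrobSch.IsPerfection πX p) (hY : FrobSch.IsPerfection πY p)
    (w : fP ≫ πY = πX ≫ f) [Etale f] : IsPullback fP πX πY f := by
  letI := FrobSch.IsCharP.of_hom (pullback.fst πY f) p
  haveI : Etale (pullback.fst πY f) := MorphismProperty.pullback_fst _ _ ‹_›
  have hP : FrobSch.IsPerfection (pullback.snd πY f) p := by
    refine ⟨isPerfect_of_etale (pullback.fst πY f) hY.1, fun Z _ hZ =>
      ⟨fun a b hab => ?_, fun b => ?_⟩⟩
    · change a ≫ pullback.snd πY f = b ≫ pullback.snd πY f at hab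
      refine pullback.hom_ext (perfection_ext hY hZ ?_) hab
      rw [Category.assoc, Category.assoc, pullback.condition, reassoc_of% hab]
    · obtain ⟨a, ha⟩ := perfection_lift hY hZ (b ≫ f)
      exact ⟨pullback.lift a b ha, pullback.lift_snd _ _ _⟩
  obtain ⟨e, he⟩ := exists_iso hX hP
  refine (IsPullback.of_hasPullback πY f).of_iso e.symm (Iso.refl _) (Iso.refl _) (Iso.refl _)
    ?_ ?_ (by simp) (by simp)
  · have : e.hom ≫ pullback.fst πY f = fP := perfection_ext hY hX.1 (by
      rw [Category.assoc, pullback.condition, reassoc_of% he, w])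
    simp [← this]
  · simp [← he]

end Groth.Agent.PerfCl20
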