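import Groth.Agent.Lib.PerfCl20.Basic
import Mathlib.AlgebraicGeometry.Morphisms.Flat
import Mathlib.AlgebraicGeometry.Morphisms.Immersion
import Mathlib.AlgebraicGeometry.Morphisms.QuasiSeparated
import Mathlib.AlgebraicGeometry.Morphisms.Separated
import Mathlib.AlgebraicGeometry.Morphisms.Proper

/-!
# Properties of a morphism and of its perfection
-/

universe u

set_option autoImplicit false
set_option linter.style.haveILetI false

open CategoryTheory CategoryTheory.Limits AlgebraicGeometry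

namespace Groth.Agent.PerfCl20

variable {p : ℕ} [Fact p.Prime] {X Y XP YP : Scheme.{u}}
    [FrobSch.IsCharP X p] [FrobSch.IsCharP Y p] [FrobSch.IsCharP XP p] [FrobSch.IsCharP YP p]
    {πX : XP ⟶ X} {πY : YP ⟶ Y} {f : X ⟶ Y} {fP : XP ⟶ YP}

local instance : FlatMor.IsUnivHomeo.{u}.IsStableUnderBaseChange := by
  unfold FlatMor.IsUnivHomeo; infer_instance

theorem isIntegralHom (h : FrobSch.IsPerfection πY p) : IsIntegralHom πY :=
  ((Groth.Agent.S0415.result _).1 (isUnivHomeo h)).1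

theorem surjective (h : FrobSch.IsPerfection πY p) : Surjective πY :=
  ((Groth.Agent.S0415.result _).1 (isUnivHomeo h)).2.2

theorem universallyInjective (h : FrobSch.IsPerfection πY p) : UniversallyInjective πY :=
  ((Groth.Agent.S0415.result _).1 (isUnivHomeo h)).2.1

/-- Transfer of a homeomorphism over an open of the base. -/
noncomputable def preimageHomeo (hX : FrobSch.IsPerfection πX p) (w : fP ≫ πY = πX ≫ f)
    (U : Y.Opens) : (fP ⁻¹ᵁ (πY ⁻¹ᵁ U)).toScheme ≃ₜ (f ⁻¹ᵁ U).toScheme :=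
  (Homeomorph.setCongr (congrArg (fun V : XP.Opens => (V : Set XP))
      (show fP ⁻¹ᵁ (πY ⁻¹ᵁ U) = πX ⁻¹ᵁ (f ⁻¹ᵁ U) by
        rw [← Scheme.Hom.comp_preimage, w, Scheme.Hom.comp_preimage]))).trans
    (UH.isHomeomorph_of_isUnivHomeo
      (MorphismProperty.of_isPullback (P := FlatMor.IsUnivHomeo)
        (isPullback_morphismRestrict πX (f ⁻¹ᵁ U)).flip (isUnivHomeo hX))).homeomorph

theorem iSup_preimage_affine (π : YP ⟶ Y) :
    ⨆ U : Y.affineOpens, π ⁻¹ᵁ U.1 = ⊤ := by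
  rw [← Scheme.Hom.preimage_iSup, iSup_affineOpens_eq_top, Scheme.Hom.preimage_top]

theorem quasiCompact_iff (hX : FrobSch.IsPerfection πX p) (hY : FrobSch.IsPerfection πY p)
    (w : fP ≫ πY = πX ≫ f) : QuasiCompact f ↔ QuasiCompact fP := by
  rw [HasAffineProperty.iff_of_iSup_eq_top (P := @QuasiCompact) (fun U : Y.affineOpens => U)
      (iSup_affineOpens_eq_top Y),
    HasAffineProperty.iff_of_iSup_eq_top (P := @QuasiCompact)
      (fun U : Y.affineOpens => (⟨πY ⁻¹ᵁ U.1, (affine_isPerfMap hY U.2).1⟩ : YP.affineOpens))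
      (iSup_preimage_affine πY)]
  refine forall_congr' fun U => ?_
  exact ⟨fun _ => (preimageHomeo hX w U.1).symm.compactSpace,
    fun _ => (preimageHomeo hX w U.1).compactSpace⟩

theorem quasiSeparated_iff (hX : FrobSch.IsPerfection πX p) (hY : FrobSch.IsPerfection πY p)
    (w : fP ≫ πY = πX ≫ f) : QuasiSeparated f ↔ QuasiSeparated fP := by
  rw [HasAffineProperty.iff_of_iSup_eq_top (P := @QuasiSeparated) (fun U : Y.affineOpens => U)
      (iSup_affineOpens_eq_top Y),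
    HasAffineProperty.iff_of_iSup_eq_top (P := @QuasiSeparated)
      (fun U : Y.affineOpens => (⟨πY ⁻¹ᵁ U.1, (affine_isPerfMap hY U.2).1⟩ : YP.affineOpens))
      (iSup_preimage_affine πY)]
  exact forall_congr' fun U => (quasiSeparatedSpace_congr (preimageHomeo hX w U.1)).symm

theorem universallyClosed_iff (hX : FrobSch.IsPerfection πX p) (hY : FrobSch.IsPerfection πY p)
    (w : fP ≫ πY = πX ≫ f) : UniversallyClosed f ↔ UniversallyClosed fP := by
  haveI := isIntegralHom hX; haveI := isIntegralHom hY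
  haveI := surjective hX
  constructor
  · intro _
    haveI : UniversallyClosed (fP ≫ πY) := by rw [w]; infer_instance
    exact UniversallyClosed.of_comp_of_isSeparated fP πY
  · intro _
    haveI : UniversallyClosed (πX ≫ f) := by rw [← w]; infer_instance
    exact UniversallyClosed.of_comp_surjective πX f

theorem isUnivHomeo_iff (hX : FrobSch.IsPerfection πX p) (hY : FrobSch.IsPerfection πY p)
    (w : fP ≫ πY = πX ≫ f) : FlatMor.IsUnivHomeo f ↔ FlatMor.IsUnivHomeo fP :=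
  ⟨fun h => UH.of_comp_right (g := πY) (by rw [w]; exact UH.isUnivHomeo_comp (isUnivHomeo hX) h)
    (isUnivHomeo hY),
  fun h => UH.of_comp_left (f := πX) (by rw [← w]; exact UH.isUnivHomeo_comp h (isUnivHomeo hY))
    (isUnivHomeo hX)⟩

theorem surjective_perfection (hX : FrobSch.IsPerfection πX p) (hY : FrobSch.IsPerfection πY p)
    (w : fP ≫ πY = πX ≫ f) [Surjective f] : Surjective fP := by
  haveI := surjective hX
  refine ⟨fun y => ?_⟩
  obtain ⟨x, hx⟩ := (πX ≫ f).surjective (πY y)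
  refine ⟨x, (UH.isHomeomorph_of_isUnivHomeo (isUnivHomeo hY)).injective ?_⟩
  rw [← hx, ← w]
  rfl

theorem isAffineHom_perfection (hX : FrobSch.IsPerfection πX p) (hY : FrobSch.IsPerfection πY p)
    (w : fP ≫ πY = πX ≫ f) [IsAffineHom f] : IsAffineHom fP := by
  haveI := isIntegralHom hX; haveI := isIntegralHom hY
  haveI : IsAffineHom (fP ≫ πY) := by rw [w]; infer_instance
  exact MorphismProperty.of_postcomp (W := @IsAffineHom) (W' := @IsSeparated) fP πY
      inferInstance ‹_›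

theorem isSeparated_iff (hX : FrobSch.IsPerfection πX p) (hY : FrobSch.IsPerfection πY p)
    (w : fP ≫ πY = πX ≫ f) : IsSeparated f ↔ IsSeparated fP := by
  haveI := isIntegralHom hX; haveI := isIntegralHom hY
  constructor
  · intro _
    haveI : IsSeparated (fP ≫ πY) := by rw [w]; infer_instance
    exact IsSeparated.of_comp fP πY
  · intro _
    haveI : IsSeparated (πX ≫ f) := by rw [← w]; infer_instance
    let m := pullback.map (πX ≫ f) (πX ≫ f) f f πX πX (𝟙 Y) (by simp) (by simp)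
    haveI : UniversallyClosed m :=
      MorphismProperty.pullbackMap (P := @UniversallyClosed)
        (inferInstance : UniversallyClosed πX) (inferInstance : UniversallyClosed πX) rfl rfl
    refine ⟨IsClosedImmersion.of_isPreimmersion _ ?_⟩
    haveI := surjective hX
    have hd : pullback.diagonal (πX ≫ f) ≫ m = πX ≫ pullback.diagonal f := by
      apply pullback.hom_ext <;> simp [m, pullback.map, pullback.lift_fst, pullback.lift_snd, pullback.lift_fst_assoc, pullback.lift_snd_assoc]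
    have : Set.range (pullback.diagonal f) = m '' Set.range (pullback.diagonal (πX ≫ f)) := by
      rw [← Set.range_comp, ← Function.Surjective.range_comp πX.surjective]
      show Set.range (fun x => (πX ≫ pullback.diagonal f) x) =
        Set.range (fun x => (pullback.diagonal (πX ≫ f) ≫ m) x)
      rw [hd]
    rw [this]
    exact m.isClosedMap _ (pullback.diagonal (πX ≫ f)).isClosedMap.isClosed_range

theorem app_comm (w : fP ≫ πY = πX ≫ f) (U : Y.Opens) :
    ((fP.appLE (πY ⁻¹ᵁ U) (πX ⁻¹ᵁ (f ⁻¹ᵁ U))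
      (by rw [← Scheme.Hom.comp_preimage, ← Scheme.Hom.comp_preimage, w])).hom).comp (πY.app U).hom =
      (πX.app (f ⁻¹ᵁ U)).hom.comp (f.app U).hom := by
  rw [← CommRingCat.hom_comp, ← CommRingCat.hom_comp, Scheme.Hom.app_eq_appLE,
    Scheme.Hom.app_eq_appLE, Scheme.Hom.app_eq_appLE, Scheme.Hom.appLE_comp_appLE,
    Scheme.Hom.appLE_comp_appLE]
  congr 2

theorem flat_perfection (hX : FrobSch.IsPerfection πX p) (hY : FrobSch.IsPerfection πY p)
    (w : fP ≫ πY = πX ≫ f) [Flat f] : Flat fP := by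
  rw [IsZariskiLocalAtTarget.iff_of_iSup_eq_top (P := @Flat) _ (iSup_preimage_affine πY)]
  intro U
  rw [IsZariskiLocalAtSource.iff_of_iSup_eq_top (P := @Flat)
    (fun V : {V : X.affineOpens // V.1 ≤ f ⁻¹ᵁ U.1} => (fP ⁻¹ᵁ πY ⁻¹ᵁ U.1).ι ⁻¹ᵁ (πX ⁻¹ᵁ V.1.1))
    ?_]
  · intro V
    obtain ⟨hYa, hYm⟩ := affine_isPerfMap hY U.2
    obtain ⟨hXa, hXm⟩ := affine_isPerfMap hX V.1.2
    have e : πX ⁻¹ᵁ V.1.1 ≤ fP ⁻¹ᵁ πY ⁻¹ᵁ U.1 := by
      rw [← Scheme.Hom.comp_preimage, w, Scheme.Hom.comp_preimage]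
      exact fun x hx => V.2 hx
    have hflat : (fP.appLE _ _ e).hom.Flat := by
      refine hYm.flat hXm (f.appLE U.1 V.1.1 V.2).hom _ (FrobSch.natCast_eq_zero_app Y p U.1)
        (FrobSch.natCast_eq_zero_app X p V.1.1) ?_
        (HasRingHomProperty.appLE (P := @Flat) f inferInstance U V.1 V.2)
      rw [← CommRingCat.hom_comp, ← CommRingCat.hom_comp, Scheme.Hom.app_eq_appLE,
        Scheme.Hom.app_eq_appLE, Scheme.Hom.appLE_comp_appLE, Scheme.Hom.appLE_comp_appLE]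
      congr 2
    haveI : Flat (Spec.map (fP.appLE _ _ e)) :=
      (HasRingHomProperty.Spec_iff (P := @Flat)).2 hflat
    haveI : Flat (fP.resLE (πY ⁻¹ᵁ U.1) (πX ⁻¹ᵁ V.1.1) e) := by
      have : fP.resLE (πY ⁻¹ᵁ U.1) (πX ⁻¹ᵁ V.1.1) e =
          hXa.isoSpec.hom ≫ Spec.map (fP.appLE _ _ e) ≫ hYa.isoSpec.inv := by
        rw [← cancel_mono (πY ⁻¹ᵁ U.1).ι, Scheme.Hom.resLE_comp_ι, Category.assoc, Category.assoc,
          hYa.isoSpec_inv_ι, IsAffineOpen.SpecMap_appLE_fromSpec _ hYa hXa e, ← hXa.isoSpec_inv_ι,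
          Category.assoc, Iso.hom_inv_id_assoc]
      rw [this]; infer_instance
    have hle : (fP ⁻¹ᵁ πY ⁻¹ᵁ U.1).ι ''ᵁ ((fP ⁻¹ᵁ πY ⁻¹ᵁ U.1).ι ⁻¹ᵁ (πX ⁻¹ᵁ V.1.1)) =
        πX ⁻¹ᵁ V.1.1 := by
      rw [Scheme.Hom.image_preimage_eq_opensRange_inf, Scheme.Opens.opensRange_ι]
      exact inf_eq_right.mpr e
    have : ((fP ⁻¹ᵁ πY ⁻¹ᵁ U.1).ι ⁻¹ᵁ (πX ⁻¹ᵁ V.1.1)).ι ≫ (fP ∣_ (πY ⁻¹ᵁ U.1)) =
        ((fP ⁻¹ᵁ πY ⁻¹ᵁ U.1).ι.isoImage _).hom ≫ (XP.isoOfEq hle).hom ≫
          fP.resLE (πY ⁻¹ᵁ U.1) (πX ⁻¹ᵁ V.1.1) e := by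
      rw [← cancel_mono (πY ⁻¹ᵁ U.1).ι]
      simp [morphismRestrict_ι]
    rw [this]
    infer_instance
  · rw [← top_le_iff]
    rintro x -
    have hx : f (πX x.1) ∈ U.1 := by
      have h2 : πY (fP x.1) ∈ U.1 := x.2
      rwa [← Scheme.Hom.comp_apply, w] at h2
    obtain ⟨_, ⟨W, hW, rfl⟩, hxW, hWU⟩ := X.isBasis_affineOpens.exists_subset_of_mem_open
      (show πX x.1 ∈ ((f ⁻¹ᵁ U.1 : X.Opens) : Set X) from hx) (f ⁻¹ᵁ U.1).2
    exact TopologicalSpace.Opens.mem_iSup.mpr ⟨⟨⟨W, hW⟩, hWU⟩, hxW⟩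

theorem isClosedImmersion_perfection (hX : FrobSch.IsPerfection πX p)
    (hY : FrobSch.IsPerfection πY p) (w : fP ≫ πY = πX ≫ f) [IsClosedImmersion f] :
    IsClosedImmersion fP := by
  haveI := isAffineHom_perfection hX hY w
  rw [HasAffineProperty.iff_of_iSup_eq_top (P := @IsClosedImmersion)
      (fun U : Y.affineOpens => (⟨πY ⁻¹ᵁ U.1, (affine_isPerfMap hY U.2).1⟩ : YP.affineOpens))
      (iSup_preimage_affine πY)]
  intro U
  obtain ⟨hYa, hYm⟩ := affine_isPerfMap hY U.2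
  obtain ⟨hXa, hXm⟩ := affine_isPerfMap hX (U.2.preimage f)
  have hV := hYa.preimage fP
  refine ⟨hV, ?_⟩
  have hs := hYm.surjective hXm (f.app U.1).hom _ (app_comm w U.1) (f.app_surjective U.1 U.2)
  have hs' : Function.Surjective (fP.app (πY ⁻¹ᵁ U.1)) := by
    have e : πX ⁻¹ᵁ (f ⁻¹ᵁ U.1) = fP ⁻¹ᵁ (πY ⁻¹ᵁ U.1) := by
      rw [← Scheme.Hom.comp_preimage, ← Scheme.Hom.comp_preimage, w]
    rw [show fP.app (πY ⁻¹ᵁ U.1) = fP.appLE (πY ⁻¹ᵁ U.1) (πX ⁻¹ᵁ (f ⁻¹ᵁ U.1)) e.le ≫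
      XP.presheaf.map (eqToHom (congrArg Opposite.op e)) by
        rw [Scheme.Hom.app_eq_appLE, Scheme.Hom.appLE_map]]
    intro b
    obtain ⟨c, rfl⟩ := (ConcreteCategory.bijective_of_isIso
      (XP.presheaf.map (eqToHom (congrArg Opposite.op e)))).surjective b
    obtain ⟨a, rfl⟩ := hs c
    exact ⟨a, rfl⟩
  have hgen : ∀ W : YP.Opens, W = πY ⁻¹ᵁ U.1 → Function.Surjective (fP.app W) := by
    rintro W rfl; exact hs'
  rw [morphismRestrict_appTop]
  intro b
  obtain ⟨c, rfl⟩ := (ConcreteCategory.bijective_of_isIso (XP.presheaf.map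
    (eqToHom (image_morphismRestrict_preimage fP (πY ⁻¹ᵁ U.1) ⊤)).op)).surjective b
  obtain ⟨a, rfl⟩ := hgen _ (by rw [Scheme.Opens.ι_image_top]) c
  exact ⟨a, rfl⟩

theorem isOpenImmersion_perfection (hX : FrobSch.IsPerfection πX p)
    (hY : FrobSch.IsPerfection πY p) (w : fP ≫ πY = πX ≫ f) [IsOpenImmersion f] :
    IsOpenImmersion fP := by
  letI := FrobSch.IsCharP.of_hom (pullback.fst πY f) p
  obtain ⟨e, he⟩ := exists_iso hX (isPerfection_of_isPullback hY (IsPullback.of_hasPullback πY f))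
  have : fP = e.hom ≫ pullback.fst πY f := perfection_ext hY hX.1 (by
    rw [w, Category.assoc, pullback.condition, reassoc_of% he])
  rw [this]
  infer_instance

theorem isImmersion_perfection (hX : FrobSch.IsPerfection πX p) (hY : FrobSch.IsPerfection πY p)
    (w : fP ≫ πY = πX ≫ f) [IsImmersion f] : IsImmersion fP := by
  let U := f.coborderRange
  letI := FrobSch.IsCharP.of_hom (πY ⁻¹ᵁ U).ι p
  letI := FrobSch.IsCharP.of_hom U.ι p
  have hUP := isPerfection_restrict hY U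
  obtain ⟨g, hg⟩ := perfection_lift hUP hX.1 (πX ≫ f.liftCoborder)
  haveI : IsClosedImmersion g := isClosedImmersion_perfection hX hUP hg
  have : g ≫ (πY ⁻¹ᵁ U).ι = fP := perfection_ext hY hX.1 (by
    rw [Category.assoc, ← morphismRestrict_ι, reassoc_of% hg, w, f.liftCoborder_ι])
  rw [← this]
  infer_instance

end Groth.Agent.PerfCl20
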