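import Mathlib.FieldTheory.PerfectClosure
import Mathlib.Algebra.CharP.Lemmas
import Mathlib.RingTheory.Flat.EquationalCriterion
import Mathlib.RingTheory.RingHom.Flat
import Mathlib.Algebra.Category.Ring.Basic

/-!
# Perfections of rings in which a prime is zero
-/

universe u

set_option autoImplicit false
set_option linter.style.haveILetI false

namespace Groth.Agent.PerfCl20

variable {A B C : Type u} [CommRing A] [CommRing B] [CommRing C]

/-- `φ : A → B` exhibits `B` as a perfection of `A`. -/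
structure IsPerfMap (p : ℕ) (φ : A →+* B) : Prop where
  perfect : Function.Bijective fun x : B => x ^ p
  ker : ∀ a : A, φ a = 0 → ∃ n : ℕ, a ^ p ^ n = 0
  range : ∀ b : B, ∃ (n : ℕ) (a : A), φ a = b ^ p ^ n

theorem bijective_pow_iterate {p : ℕ} (h : Function.Bijective fun x : A => x ^ p) (n : ℕ) :
    Function.Bijective fun x : A => x ^ p ^ n := by
  induction n with
  | zero => simp only [pow_zero, pow_one]; exact Function.bijective_id
  | succ n ih =>
    have : (fun x : A => x ^ p ^ (n + 1)) = (fun x : A => x ^ p) ∘ fun x : A => x ^ p ^ n := by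
      funext x
      simp [pow_succ, pow_mul]
    rw [this]
    exact h.comp ih

theorem add_pow_eq {p : ℕ} [Fact p.Prime] (h : (p : A) = 0) (x y : A) (n : ℕ) :
    (x + y) ^ p ^ n = x ^ p ^ n + y ^ p ^ n := by
  rcases subsingleton_or_nontrivial A with hA | hA
  · exact Subsingleton.elim _ _
  · have : CharP A p := (CharP.charP_iff_prime_eq_zero Fact.out).2 h
    exact add_pow_char_pow x y p n

theorem sub_pow_eq {p : ℕ} [Fact p.Prime] (h : (p : A) = 0) (x y : A) (n : ℕ) :
    (x - y) ^ p ^ n = x ^ p ^ n - y ^ p ^ n := by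
  rw [eq_sub_iff_add_eq, ← add_pow_eq h, sub_add_cancel]

theorem sum_pow_eq {p : ℕ} [Fact p.Prime] (h : (p : A) = 0) {ι : Type*} (s : Finset ι)
    (f : ι → A) (n : ℕ) : (∑ i ∈ s, f i) ^ p ^ n = ∑ i ∈ s, f i ^ p ^ n := by
  induction s using Finset.cons_induction with
  | empty => simp [zero_pow, pow_ne_zero, (Fact.out : p.Prime).ne_zero]
  | cons a s has ih => rw [Finset.sum_cons, Finset.sum_cons, add_pow_eq h, ih]

theorem pow_eq_mono {p : ℕ} (hp : p ≠ 0) {a : A} {n m : ℕ} (hnm : n ≤ m) (h : a ^ p ^ n = 0) :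
    a ^ p ^ m = 0 :=
  pow_eq_zero_of_le (Nat.pow_le_pow_right (Nat.pos_of_ne_zero hp) hnm) h

theorem exists_isPerfMap (p : ℕ) [Fact p.Prime] (A : CommRingCat.{u}) (h : (p : A) = 0) :
    ∃ (B : CommRingCat.{u}) (φ : A ⟶ B), IsPerfMap p φ.hom := by
  rcases subsingleton_or_nontrivial A with hA | hA
  · exact ⟨A, CategoryTheory.CategoryStruct.id A,
      ⟨fun x y _ => Subsingleton.elim x y, fun y => ⟨0, Subsingleton.elim _ _⟩⟩,
      fun a _ => ⟨0, Subsingleton.elim _ _⟩, fun b => ⟨0, b, Subsingleton.elim _ _⟩⟩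
  · haveI : CharP A p := (CharP.charP_iff_prime_eq_zero Fact.out).2 h
    refine ⟨CommRingCat.of (PerfectClosure A p), CommRingCat.ofHom (PerfectClosure.of A p),
      bijective_frobenius (PerfectClosure A p) p, fun a ha => ?_, fun b => ?_⟩
    · change PerfectClosure.mk A p (0, a) = PerfectClosure.mk A p (0, 0) at ha
      rw [PerfectClosure.mk_eq_iff] at ha
      obtain ⟨z, hz⟩ := ha
      refine ⟨z, ?_⟩
      simpa [iterate_frobenius, zero_pow, pow_ne_zero, (Fact.out : p.Prime).ne_zero] using hz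
    · obtain ⟨⟨n, x⟩, rfl⟩ := PerfectClosure.mk_surjective A p b
      refine ⟨n, x, ?_⟩
      have := PerfectClosure.iterate_frobenius_mk A p n x
      rw [iterate_frobenius] at this
      exact this.symm

namespace IsPerfMap

variable {p : ℕ} {φ : A →+* B}

theorem lift_ext (hφ : IsPerfMap p φ) (hC : Function.Bijective fun x : C => x ^ p)
    {χ χ' : B →+* C} (h : χ.comp φ = χ'.comp φ) : χ = χ' := by
  ext b
  obtain ⟨n, a, ha⟩ := hφ.range b
  apply (bijective_pow_iterate hC n).injective
  show χ b ^ p ^ n = χ' b ^ p ^ n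
  rw [← map_pow, ← map_pow, ← ha]
  exact RingHom.congr_fun h a

theorem exists_lift [Fact p.Prime] (hφ : IsPerfMap p φ) (h0A : (p : A) = 0) (h0C : (p : C) = 0)
    (hC : Function.Bijective fun x : C => x ^ p) (ψ : A →+* C) :
    ∃ χ : B →+* C, χ.comp φ = ψ := by
  have hp : p ≠ 0 := (Fact.out : p.Prime).ne_zero
  have hwd : ∀ (n n' : ℕ) (a a' : A) (c c' : C) (b : B), φ a = b ^ p ^ n → φ a' = b ^ p ^ n' →
      ψ a = c ^ p ^ n → ψ a' = c' ^ p ^ n' → c = c' := by
    intro n n' a a' c c' b h1 h2 h3 h4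
    have h : φ (a ^ p ^ n' - a' ^ p ^ n) = 0 := by
      rw [map_sub, map_pow, map_pow, h1, h2, ← pow_mul, ← pow_mul, mul_comm, sub_self]
    obtain ⟨m, hm⟩ := hφ.ker _ h
    have h5 := congrArg ψ hm
    rw [map_zero, map_pow, map_sub, map_pow, map_pow, h3, h4, ← pow_mul, ← pow_mul,
      mul_comm (p ^ n') (p ^ n), ← pow_add] at h5
    rw [sub_pow_eq h0C, sub_eq_zero] at h5
    exact (bijective_pow_iterate hC (n + n')).injective ((bijective_pow_iterate hC m).injective h5)
  choose n a ha using hφ.range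
  choose c hc using fun b => (bijective_pow_iterate hC (n b)).surjective (ψ (a b))
  have hc' : ∀ b, ψ (a b) = c b ^ p ^ n b := fun b => (hc b).symm
  have key : ∀ (b : B) (m : ℕ) (x : A) (d : C), φ x = b ^ p ^ m → ψ x = d ^ p ^ m → c b = d :=
    fun b m x d h1 h2 => hwd _ _ _ _ _ _ b (ha b) h1 (hc' b) h2
  refine ⟨{ toFun := c, map_one' := key 1 0 1 1 (by simp) (by simp),
            map_mul' := fun b b' => ?_, map_zero' := key 0 0 0 0 (by simp) (by simp),
            map_add' := fun b b' => ?_ }, ?_⟩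
  · refine key _ (n b + n b') (a b ^ p ^ n b' * a b' ^ p ^ n b) _ ?_ ?_
    · simp only [map_mul, map_pow, ha, mul_pow, ← pow_mul, ← pow_add, Nat.add_comm (n b') (n b)]
    · simp only [map_mul, map_pow, hc', mul_pow, ← pow_mul, ← pow_add, Nat.add_comm (n b') (n b)]
  · refine key _ (n b + n b') (a b ^ p ^ n b' + a b' ^ p ^ n b) _ ?_ ?_
    · have h0B : (p : B) = 0 := by rw [← map_natCast φ, h0A, map_zero]
      simp only [map_add, map_pow, ha, add_pow_eq h0B, ← pow_mul, ← pow_add,
        Nat.add_comm (n b') (n b)]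
    · simp only [map_add, map_pow, hc', add_pow_eq h0C, ← pow_mul, ← pow_add,
        Nat.add_comm (n b') (n b)]
  · ext x
    exact key (φ x) 0 x (ψ x) (by simp) (by simp)

theorem surjective {A' B' : Type u} [CommRing A'] [CommRing B'] {φ' : A' →+* B'} (hφ : IsPerfMap p φ)
    (hφ' : IsPerfMap p φ') (f : A →+* A') (g : B →+* B') (hc : g.comp φ = φ'.comp f)
    (hf : Function.Surjective f) : Function.Surjective g := by
  intro b
  obtain ⟨n, a', ha'⟩ := hφ'.range b
  obtain ⟨a, rfl⟩ := hf a'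
  obtain ⟨c, hc'⟩ := (bijective_pow_iterate hφ.perfect n).surjective (φ a)
  refine ⟨c, (bijective_pow_iterate hφ'.perfect n).injective ?_⟩
  show g c ^ p ^ n = b ^ p ^ n
  rw [← map_pow, show c ^ p ^ n = φ a from hc']
  exact (RingHom.congr_fun hc a).trans ha'

theorem flat [Fact p.Prime] {A' B' : Type u} [CommRing A'] [CommRing B'] {φ' : A' →+* B'}
    (hφ : IsPerfMap p φ) (hφ' : IsPerfMap p φ') (f : A →+* A') (g : B →+* B')
    (h0A : (p : A) = 0) (h0 : (p : A') = 0) (hc : g.comp φ = φ'.comp f) (hf : f.Flat) : g.Flat := by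
  have hp : p ≠ 0 := (Fact.out : p.Prime).ne_zero
  algebraize [f, g]
  haveI : Module.Flat A A' := hf
  show Module.Flat B B'
  refine Module.Flat.of_forall_isTrivialRelation fun {l} {b} {x} hsum => ?_
  choose nb ab hab using fun i => hφ.range (b i)
  choose nx ax hax using fun i => hφ'.range (x i)
  let N := (∑ i, nb i) + ∑ i, nx i
  have hnb : ∀ i, nb i ≤ N := fun i =>
    (Finset.single_le_sum (fun j _ => Nat.zero_le (nb j)) (Finset.mem_univ i)).trans
      (Nat.le_add_right _ _)
  have hnx : ∀ i, nx i ≤ N := fun i =>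
    (Finset.single_le_sum (fun j _ => Nat.zero_le (nx j)) (Finset.mem_univ i)).trans
      (Nat.le_add_left _ _)
  let α : Fin l → A := fun i => ab i ^ p ^ (N - nb i)
  let β : Fin l → A' := fun i => ax i ^ p ^ (N - nx i)
  have hα : ∀ i, φ (α i) = b i ^ p ^ N := fun i => by
    simp only [α, map_pow, hab, ← pow_mul, ← pow_add, Nat.add_sub_cancel' (hnb i)]
  have hβ : ∀ i, φ' (β i) = x i ^ p ^ N := fun i => by
    simp only [β, map_pow, hax, ← pow_mul, ← pow_add, Nat.add_sub_cancel' (hnx i)]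
  have h0B' : (p : B') = 0 := by rw [← map_natCast φ', h0, map_zero]
  have hsum' : ∑ i, g (b i) * x i = 0 := by
    simpa only [Algebra.smul_def, RingHom.algebraMap_toAlgebra] using hsum
  have hker : φ' (∑ i, f (α i) * β i) = 0 := by
    rw [map_sum]
    have he : ∀ i, φ' (f (α i) * β i) = (g (b i) * x i) ^ p ^ N := fun i => by
      rw [map_mul, mul_pow, hβ, show φ' (f (α i)) = g (φ (α i)) from (RingHom.congr_fun hc _).symm,
        hα, map_pow]
    simp only [he]
    rw [← sum_pow_eq h0B', hsum', zero_pow (pow_ne_zero _ hp)]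
  obtain ⟨m, hm⟩ := hφ'.ker _ hker
  rw [sum_pow_eq h0] at hm
  obtain ⟨k, c, γ, hγ, hc0⟩ := Module.Flat.isTrivialRelation_of_sum_smul_eq_zero (R := A) (M := A')
    (f := fun i => α i ^ p ^ m) (x := fun i => β i ^ p ^ m) (by
      simpa only [Algebra.smul_def, RingHom.algebraMap_toAlgebra, map_pow, mul_pow] using hm)
  let M := N + m
  choose y hy using fun j => (bijective_pow_iterate hφ'.perfect M).surjective (φ' (γ j))
  choose d hd using fun i j => (bijective_pow_iterate hφ.perfect M).surjective (φ (c i j))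
  simp only at hy hd
  refine ⟨k, d, y, fun i => ?_, fun j => ?_⟩
  · apply (bijective_pow_iterate hφ'.perfect M).injective
    show x i ^ p ^ M = (∑ j, d i j • y j) ^ p ^ M
    rw [sum_pow_eq h0B']
    have := congrArg φ' (hγ i)
    simp only [map_pow, hβ, ← pow_mul, ← pow_add] at this
    refine this.trans ?_
    rw [map_sum]
    refine Finset.sum_congr rfl fun j _ => ?_
    rw [Algebra.smul_def, Algebra.smul_def, mul_pow, map_mul, hy,
      RingHom.algebraMap_toAlgebra, RingHom.algebraMap_toAlgebra, ← map_pow, hd]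
    congr 1
    exact (RingHom.congr_fun hc _).symm
  · apply (bijective_pow_iterate hφ.perfect M).injective
    show _ ^ p ^ M = (0 : B) ^ p ^ M
    rw [zero_pow (pow_ne_zero _ hp)]
    rw [sum_pow_eq (by rw [← map_natCast φ, h0A, map_zero] : (p : B) = 0)]
    refine Eq.trans ?_ ((congrArg φ (hc0 j)).trans (map_zero φ))
    rw [map_sum]
    refine Finset.sum_congr rfl fun i _ => ?_
    rw [mul_pow, hd, map_mul, map_pow, hα, ← pow_mul, ← pow_add]

end IsPerfMap

end Groth.Agent.PerfCl20
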